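import Cfsg.Agent.PLocal.Cores
import Cfsg.Agent.Inv54.Core
import Mathlib.GroupTheory.Transfer
import Mathlib.GroupTheory.Sylow

/-!
# Strongly closed elementary abelian 2-subgroups: basic facts
-/

set_option autoImplicit false
set_option linter.style.haveILetI false
set_option linter.unusedSectionVars false

namespace CfsgLib.TameClosed

open Subgroup
open scoped Pointwise

variable {G : Type*} [Group G] [Finite G]

/-- `O(K)` as a subgroup of the ambient group. -/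
def coreIn (K : Subgroup G) : Subgroup G := (Cfsg.oddCore K).map K.subtype

theorem coreIn_le (K : Subgroup G) : coreIn K ≤ K := map_subtype_le _

theorem odd_coreIn (K : Subgroup G) : Odd (Nat.card (coreIn K)) := by
  rw [coreIn, ← Nat.card_congr ((Cfsg.oddCore K).equivMapOfInjective K.subtype
    Subtype.val_injective).toEquiv]
  exact CfsgLib.Inv54.odd_card_oddCore

theorem conj_coreIn {K : Subgroup G} {y r : G} (hy : y ∈ K) (hr : r ∈ coreIn K) :
    y * r * y⁻¹ ∈ coreIn K := by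
  obtain ⟨r', hr', rfl⟩ := hr
  have hn : (Cfsg.oddCore K).Normal := inferInstance
  exact ⟨_, hn.conj_mem r' hr' ⟨y, hy⟩, rfl⟩

theorem le_coreIn {K N : Subgroup G} (hN : N ≤ K) (hodd : Odd (Nat.card N))
    (hinv : ∀ y ∈ K, ∀ n ∈ N, y * n * y⁻¹ ∈ N) : N ≤ coreIn K := by
  haveI : (N.subgroupOf K).Normal :=
    ⟨fun n hn y => mem_subgroupOf.2 (hinv y y.2 n (mem_subgroupOf.1 hn))⟩
  intro n hn
  refine ⟨⟨n, hN hn⟩, CfsgLib.PLocal.le_pPrimeCore (N := N.subgroupOf _) (Nat.coprime_two_right.2 ?_)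
    (mem_subgroupOf.2 hn), rfl⟩
  rw [Nat.card_congr (subgroupOfEquivOfLe hN).toEquiv]
  exact hodd

theorem map_coreIn {K : Subgroup G} {g r : G} (hg : g ∈ normalizer (K : Set G)) (hr : r ∈ coreIn K) :
    g * r * g⁻¹ ∈ coreIn K := by
  refine le_coreIn (N := (coreIn K).map (MulAut.conj g).toMonoidHom) ?_ ?_ ?_ ⟨r, hr, rfl⟩
  · rintro _ ⟨s, hs, rfl⟩
    exact (mem_normalizer_iff.1 hg s).1 (coreIn_le K hs)
  · rw [← Nat.card_congr ((coreIn K).equivMapOfInjective _ (MulAut.conj g).injective).toEquiv]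
    exact odd_coreIn K
  · rintro y hy _ ⟨s, hs, rfl⟩
    refine ⟨g⁻¹ * y * g * s * (g⁻¹ * y * g)⁻¹, conj_coreIn ((mem_normalizer_iff''.1 hg y).1 hy) hs, ?_⟩
    show g * (g⁻¹ * y * g * s * (g⁻¹ * y * g)⁻¹) * g⁻¹ = y * (g * s * g⁻¹) * y⁻¹
    group

theorem eq_one_of_sq_of_odd {X : Subgroup G} (hX : Odd (Nat.card X)) {x : G} (hx : x ∈ X)
    (h2 : x * x = 1) : x = 1 := by
  have h : x ^ Nat.gcd 2 (Nat.card X) = 1 :=
    pow_gcd_eq_one.2 ⟨by rw [sq, h2], congrArg Subtype.val (pow_card_eq_one' (x := (⟨x, hx⟩ : X)))⟩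
  rwa [Nat.coprime_two_left.2 hX, pow_one] at h

/-- The product of two subgroups of odd order, one normalizing the other, has odd order. -/
theorem odd_sup {X Y : Subgroup G} (hX : Odd (Nat.card X)) (hY : Odd (Nat.card Y))
    (hn : Y ≤ normalizer (X : Set G)) : Odd (Nat.card (X ⊔ Y : Subgroup G)) := by
  haveI : (X.subgroupOf (X ⊔ Y)).Normal :=
    normal_subgroupOf_of_le_normalizer (sup_le le_normalizer hn)
  have h1 := card_eq_card_quotient_mul_card_subgroup (X.subgroupOf (X ⊔ Y))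
  rw [Nat.card_congr (subgroupOfEquivOfLe le_sup_left).toEquiv] at h1
  rw [h1]
  refine Odd.mul (Odd.of_dvd_nat hY ?_) hX
  let f : Y →* (↥(X ⊔ Y) ⧸ X.subgroupOf (X ⊔ Y)) :=
    (QuotientGroup.mk' _).comp (inclusion le_sup_right)
  refine card_dvd_of_surjective f fun q => ?_
  obtain ⟨⟨w, hw⟩, rfl⟩ := QuotientGroup.mk_surjective q
  have hw' : w ∈ ((X : Set G) * (Y : Set G)) := by
    rw [← coe_mul_of_right_le_normalizer_left X Y hn]; exact hw
  obtain ⟨a, ha, b, hb, rfl⟩ := Set.mem_mul.1 hw'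
  refine ⟨⟨b, hb⟩, (QuotientGroup.eq.2 ?_)⟩
  rw [mem_subgroupOf]
  show b⁻¹ * (a * b) ∈ X
  have := (mem_normalizer_iff''.1 (hn hb) a).1 ha
  rwa [← mul_assoc]

/-- An elementary abelian strongly closed subgroup of a Sylow 2-subgroup, self-centralizing in it. -/
structure Closed (S : Sylow 2 G) (A : Subgroup G) : Prop where
  le : A ≤ (S : Subgroup G)
  comm : ∀ a ∈ A, ∀ b ∈ A, a * b = b * a
  sq : ∀ a ∈ A, a * a = 1
  self : ∀ t ∈ (S : Subgroup G), (∀ a ∈ A, t * a = a * t) → t ∈ A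
  closed : ∀ a ∈ A, ∀ g : G, g * a * g⁻¹ ∈ (S : Subgroup G) → g * a * g⁻¹ ∈ A

variable {S : Sylow 2 G} {A : Subgroup G}

theorem mem_normalizer_of_maps {g : G} (hg : ∀ u ∈ A, g * u * g⁻¹ ∈ A) :
    g ∈ normalizer (A : Set G) := by
  rw [mem_normalizer_iff_map_conj_eq]
  refine Subgroup.eq_of_le_of_card_ge ?_ (le_of_eq
    (Nat.card_congr (A.equivMapOfInjective _ (MulAut.conj g).injective).toEquiv))
  rintro _ ⟨x, hx, rfl⟩
  exact hg x hx

theorem conj_mem {n u : G} (hn : n ∈ normalizer (A : Set G)) (hu : u ∈ A) : n * u * n⁻¹ ∈ A :=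
  (mem_normalizer_iff.1 hn u).1 hu

variable (h : Closed S A)
include h

theorem Closed.isPGroup : IsPGroup 2 A := S.isPGroup'.to_le h.le

theorem Closed.centB {B : Subgroup G} (hB : B ≤ A) : A ≤ centralizer (B : Set G) := fun a ha =>
  mem_centralizer_iff.2 fun b hb => h.comm b (hB hb) a ha

theorem Closed.inv_eq {a : G} (ha : a ∈ A) : a⁻¹ = a := inv_eq_of_mul_eq_one_left (h.sq a ha)

/-- A 2-group can be moved into `S`. -/
theorem Closed.exists_into {P : Subgroup G} (hP : IsPGroup 2 P) :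
    ∃ g : G, ∀ x ∈ P, g * x * g⁻¹ ∈ (S : Subgroup G) := by
  obtain ⟨T, hT⟩ := hP.exists_le_sylow
  obtain ⟨g, hg⟩ := MulAction.exists_smul_eq G T S
  refine ⟨g, fun x hx => ?_⟩
  rw [← hg]
  exact ⟨x, hT hx, rfl⟩

/-- Strong closure in every 2-group containing `A`. -/
theorem Closed.mem_of_conj {P : Subgroup G} (hP : IsPGroup 2 P) (hAP : A ≤ P) {u g : G}
    (hu : u ∈ A) (hx : g * u * g⁻¹ ∈ P) : g * u * g⁻¹ ∈ A := by
  obtain ⟨k, hk⟩ := h.exists_into hP
  have hkA : k ∈ normalizer (A : Set G) :=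
    mem_normalizer_of_maps fun a ha => h.closed a ha k (hk a (hAP ha))
  have := h.closed u hu (k * g) (by
    rw [show k * g * u * (k * g)⁻¹ = k * (g * u * g⁻¹) * k⁻¹ by group]
    exact hk _ hx)
  rw [show k * g * u * (k * g)⁻¹ = k * (g * u * g⁻¹) * k⁻¹ by group] at this
  exact (mem_normalizer_iff.1 hkA _).2 this

/-- Conjugates of elements of `A` lying in a common 2-group commute. -/
theorem Closed.commute_of_conj {P : Subgroup G} (hP : IsPGroup 2 P) {u v g k : G}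
    (hu : u ∈ A) (hv : v ∈ A) (hx : g * u * g⁻¹ ∈ P) (hy : k * v * k⁻¹ ∈ P) :
    g * u * g⁻¹ * (k * v * k⁻¹) = k * v * k⁻¹ * (g * u * g⁻¹) := by
  obtain ⟨c, hc⟩ := h.exists_into hP
  have key : ∀ u g : G, u ∈ A → g * u * g⁻¹ ∈ P → c * (g * u * g⁻¹) * c⁻¹ ∈ A := fun u g hu hx => by
    have := h.closed u hu (c * g) (by
      rw [show c * g * u * (c * g)⁻¹ = c * (g * u * g⁻¹) * c⁻¹ by group]
      exact hc _ hx)
    rwa [show c * g * u * (c * g)⁻¹ = c * (g * u * g⁻¹) * c⁻¹ by group] at this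
  have := h.comm _ (key u g hu hx) _ (key v k hv hy)
  exact (MulAut.conj c).injective (by simpa using this)

/-- A 2-group containing `A` normalizes it. -/
theorem Closed.le_normalizer {P : Subgroup G} (hP : IsPGroup 2 P) (hAP : A ≤ P) :
    P ≤ normalizer (A : Set G) := fun x hx => mem_normalizer_of_maps fun a ha =>
  h.mem_of_conj hP hAP ha (mul_mem (mul_mem hx (hAP ha)) (inv_mem hx))

/-- A Sylow subgroup of `K` containing `A`. -/
theorem Closed.exists_sylow {K : Subgroup G} (hK : A ≤ K) :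
    ∃ R : Sylow 2 K, A.subgroupOf K ≤ R :=
  (h.isPGroup.comap_of_injective K.subtype K.subtype_injective).exists_le_sylow

/-- An element of `K` conjugate to an element of `A` is conjugate in `K` to one of `A`. -/
theorem Closed.exists_move {K : Subgroup G} (hK : A ≤ K) {u g : G} (hu : u ∈ A)
    (hx : g * u * g⁻¹ ∈ K) : ∃ c ∈ K, c * (g * u * g⁻¹) * c⁻¹ ∈ A := by
  haveI : Fact (Nat.Prime 2) := ⟨Nat.prime_two⟩
  obtain ⟨R, hR⟩ := h.exists_sylow hK
  have hp : IsPGroup 2 (zpowers (⟨_, hx⟩ : K)) := by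
    refine IsPGroup.iff_card.2 ?_
    rw [Nat.card_zpowers]
    obtain ⟨n, -, hn⟩ := (Nat.dvd_prime_pow Nat.prime_two).1 (orderOf_dvd_of_pow_eq_one (n := 2 ^ 1)
      (show (⟨_, hx⟩ : K) ^ 2 ^ 1 = 1 from Subtype.ext (by
        rw [pow_one, Subgroup.coe_pow]
        show (g * u * g⁻¹) ^ 2 = 1
        rw [conj_pow, _root_.sq, h.sq u hu, mul_one, mul_inv_cancel])))
    exact ⟨n, hn⟩
  obtain ⟨T, hT⟩ := hp.exists_le_sylow
  obtain ⟨c, hc⟩ := MulAction.exists_smul_eq K T R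
  refine ⟨c, c.2, ?_⟩
  have hmem : c * (⟨_, hx⟩ : K) * c⁻¹ ∈ (R : Subgroup K) := by
    rw [← hc]; exact ⟨_, hT (mem_zpowers _), rfl⟩
  have := h.mem_of_conj (R.isPGroup'.map K.subtype)
    (fun a ha => ⟨⟨a, hK ha⟩, hR (mem_subgroupOf.2 ha), rfl⟩) (u := u) (g := (c : G) * g) hu (by
      rw [show (c : G) * g * u * ((c : G) * g)⁻¹ = c * (g * u * g⁻¹) * (c : G)⁻¹ by group]
      exact ⟨_, hmem, rfl⟩)
  rwa [show (c : G) * g * u * ((c : G) * g)⁻¹ = c * (g * u * g⁻¹) * (c : G)⁻¹ by group] at this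

/-- If `y A y⁻¹` lies in `K`, some element of `K` brings `y` into the normalizer of `A`. -/
theorem Closed.exists_normalizing {K : Subgroup G} (hK : A ≤ K) {y : G}
    (hy : ∀ a ∈ A, y * a * y⁻¹ ∈ K) : ∃ c ∈ K, c * y ∈ normalizer (A : Set G) := by
  haveI : Fact (Nat.Prime 2) := ⟨Nat.prime_two⟩
  obtain ⟨R, hR⟩ := h.exists_sylow hK
  let A' : Subgroup K := (A.map (MulAut.conj y).toMonoidHom).subgroupOf K
  obtain ⟨T, hT⟩ := ((h.isPGroup.map (MulAut.conj y).toMonoidHom).comap_of_injective K.subtype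
    K.subtype_injective : IsPGroup 2 A').exists_le_sylow
  obtain ⟨c, hc⟩ := MulAction.exists_smul_eq K T R
  refine ⟨c, c.2, mem_normalizer_of_maps fun a ha => ?_⟩
  have hmem : c * (⟨_, hy a ha⟩ : K) * c⁻¹ ∈ (R : Subgroup K) := by
    rw [← hc]; exact ⟨_, hT (mem_subgroupOf.2 ⟨a, ha, rfl⟩), rfl⟩
  refine h.mem_of_conj (R.isPGroup'.map K.subtype)
    (fun a ha => ⟨⟨a, hK ha⟩, hR (mem_subgroupOf.2 ha), rfl⟩) ha ?_
  rw [show (c : G) * y * a * ((c : G) * y)⁻¹ = c * (y * a * y⁻¹) * (c : G)⁻¹ by group]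
  exact ⟨_, hmem, rfl⟩

/-- Fusion inside the centralizer of `B ≤ A` is controlled by the normalizer of `A`. -/
theorem Closed.fusion {B : Subgroup G} (hB : B ≤ A) {u v g : G} (hu : u ∈ A) (hv : v ∈ A)
    (hg : g ∈ centralizer (B : Set G)) (e : g * u * g⁻¹ = v) :
    ∃ n ∈ normalizer (A : Set G), n ∈ centralizer (B : Set G) ∧ n * u * n⁻¹ = v := by
  set K := centralizer (B : Set G) ⊓ centralizer ({v} : Set G) with hKdef
  have hK : A ≤ K := fun a ha =>
    mem_inf.2 ⟨h.centB hB ha, mem_centralizer_singleton_iff.2 (h.comm a ha v hv)⟩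
  obtain ⟨c, hc, hn⟩ := h.exists_normalizing hK (y := g) fun a ha => mem_inf.2
    ⟨mul_mem (mul_mem hg (h.centB hB ha)) (inv_mem hg), by
      rw [mem_centralizer_singleton_iff, ← e,
        show g * a * g⁻¹ * (g * u * g⁻¹) = g * (a * u) * g⁻¹ by group, h.comm a ha u hu]
      group⟩
  refine ⟨c * g, hn, mul_mem (mem_inf.1 hc).1 hg, ?_⟩
  rw [show c * g * u * (c * g)⁻¹ = c * (g * u * g⁻¹) * c⁻¹ by group, e,
    mem_centralizer_singleton_iff.1 (mem_inf.1 hc).2, mul_inv_cancel_right]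

end CfsgLib.TameClosed
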