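import Cfsg.Agent.TameClosed.Steps

/-!
# Tame strongly closed elementary abelian subgroups are normal modulo the core

If for every `B ≤ A` of index at least four the normalizer of `A` in `C(B)` is not transitive on
`(A/B)^#`, then `G = O(G) N(A)`.
-/

set_option autoImplicit false
set_option linter.style.haveILetI false
set_option linter.unusedSectionVars false

namespace CfsgLib.TameClosed

open Subgroup
open scoped Pointwise

variable {G : Type*} [Group G] [Finite G] {S : Sylow 2 G} {A : Subgroup G}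

variable (h : Closed S A)
include h

/-- The fusion relation modulo `B` is determined by conjugation in `C(B)`. -/
theorem Closed.fused_of_conj {B : Subgroup G} (hB : B ≤ A) {u v g : G} (hu : u ∈ A)
    (hv : v ∈ A) (hg : g ∈ centralizer (B : Set G)) (e : (g * u * g⁻¹)⁻¹ * v ∈ B) : Fused A B u v := by
  have hgu : g * u * g⁻¹ ∈ A := by
    have := mul_mem hv (inv_mem (hB e))
    rwa [mul_inv_rev, inv_inv, mul_inv_cancel_left] at this
  obtain ⟨n, hn, hnC, e'⟩ := h.fusion hB hu hgu hg rfl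
  exact ⟨n, hn, hnC, e' ▸ e⟩

theorem Closed.fused_trans {B : Subgroup G} (hB : B ≤ A) {u v w : G} (hu : u ∈ A)
    (h1 : Fused A B u v) (h2 : Fused A B v w) : Fused A B u w := by
  obtain ⟨n, hn, hnC, e1⟩ := h1
  obtain ⟨m, hm, hmC, e2⟩ := h2
  refine ⟨m * n, mul_mem hm hn, mul_mem hmC hnC, ?_⟩
  obtain ⟨β, hβ, rfl⟩ : ∃ β ∈ B, v = n * u * n⁻¹ * β :=
    ⟨_, e1, (mul_inv_cancel_left _ _).symm⟩
  have hc : m * β * m⁻¹ = β := by
    rw [← mem_centralizer_iff.1 hmC β hβ, mul_inv_cancel_right]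
  have := mul_mem hβ e2
  rwa [show β * ((m * (n * u * n⁻¹ * β) * m⁻¹)⁻¹ * w) = (m * n * u * (m * n)⁻¹)⁻¹ * w by
    rw [show m * (n * u * n⁻¹ * β) * m⁻¹ = m * n * u * (m * n)⁻¹ * (m * β * m⁻¹) by group, hc]
    group] at this

theorem Closed.fused_symm {B : Subgroup G} (hB : B ≤ A) {u v : G}
    (h1 : Fused A B u v) : Fused A B v u := by
  obtain ⟨n, hn, hnC, e1⟩ := h1
  refine ⟨n⁻¹, inv_mem hn, inv_mem hnC, ?_⟩
  have hc : n⁻¹ * ((n * u * n⁻¹)⁻¹ * v)⁻¹ * n = ((n * u * n⁻¹)⁻¹ * v)⁻¹ := by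
    rw [mul_assoc, mem_centralizer_iff.1 hnC _ (inv_mem e1), inv_mul_cancel_left]
  rw [show (n⁻¹ * v * n⁻¹⁻¹)⁻¹ * u = n⁻¹ * ((n * u * n⁻¹)⁻¹ * v)⁻¹ * n by group, hc]
  exact inv_mem e1

/-- An element fused to no other coset. -/
theorem Closed.good_of_isolated {B : Subgroup G} (hB : B ≤ A) {a : G} (ha : a ∈ A) (haB : a ∉ B)
    (hgood : Good A (B ⊔ zpowers a)) (hiso : ∀ v ∈ A, Fused A B a v → a⁻¹ * v ∈ B) : Good A B := by
  classical
  haveI : Fact (Nat.Prime 2) := ⟨Nat.prime_two⟩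
  set H := centralizer (B : Set G) with hH
  have hAH : A ≤ H := h.centB hB
  let BH := B.subgroupOf H
  haveI : BH.Normal := ⟨fun b hb y => by
    have hy := mem_centralizer_iff.1 y.2 (b : G) (mem_subgroupOf.1 hb)
    rw [mem_subgroupOf, Subgroup.coe_mul, Subgroup.coe_mul, Subgroup.coe_inv, ← hy, mul_inv_cancel_right]
    exact mem_subgroupOf.1 hb⟩
  obtain ⟨T, hT⟩ := h.exists_sylow hAH
  let π : H →* H ⧸ BH := QuotientGroup.mk' BH
  let Tb : Sylow 2 (H ⧸ BH) := T.mapSurjective (QuotientGroup.mk'_surjective BH)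
  have hTA : ∀ {g u : G}, u ∈ A → g * u * g⁻¹ ∈ (T : Subgroup H).map H.subtype → g * u * g⁻¹ ∈ A :=
    fun hu => h.mem_of_conj (T.isPGroup'.map H.subtype)
      (fun a ha => ⟨⟨a, hAH ha⟩, hT (mem_subgroupOf.2 ha), rfl⟩) hu
  set ā := π ⟨a, hAH ha⟩ with hā
  have hā2 : orderOf ā = 2 := by
    refine orderOf_eq_prime ?_ ?_
    · rw [hā, ← map_pow, show (⟨a, hAH ha⟩ : H) ^ 2 = 1 from Subtype.ext (by
        rw [Subgroup.coe_pow]; show a ^ 2 = 1; rw [_root_.sq, h.sq a ha]), map_one]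
    · intro e
      exact haB (mem_subgroupOf.1 ((QuotientGroup.eq_one_iff _).1 e))
  have hiso' : ∀ g, g * ā * g⁻¹ ∈ Tb → g * ā * g⁻¹ = ā := by
    intro g hg
    obtain ⟨y, rfl⟩ := QuotientGroup.mk'_surjective BH g
    obtain ⟨t, ht, e⟩ := hg
    have et : t⁻¹ * (y * ⟨a, hAH ha⟩ * y⁻¹) ∈ BH := QuotientGroup.eq.1 (by
      rw [hā] at e
      simpa [π] using e)
    have hmem : (y : G) * a * (y : G)⁻¹ ∈ A := by
      refine hTA ha ⟨t * (t⁻¹ * (y * ⟨a, hAH ha⟩ * y⁻¹)), mul_mem ht (hT (mem_subgroupOf.2 (hB (mem_subgroupOf.1 et)))), ?_⟩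
      show ((t * (t⁻¹ * (y * ⟨a, hAH ha⟩ * y⁻¹)) : H) : G) = _
      rw [mul_inv_cancel_left]
      rfl
    have := hiso _ hmem (h.fused_of_conj hB ha hmem y.2 (by rw [inv_mul_cancel]; exact one_mem _))
    rw [hā, ← map_inv, ← map_mul, ← map_mul]
    exact (QuotientGroup.eq.2 (mem_subgroupOf.2 this)).symm
  obtain ⟨N, hN, hNodd, hNc⟩ := Cfsg.Agent.S0215.result Tb ā hā2
    ⟨⟨a, hAH ha⟩, hT (mem_subgroupOf.2 ha), rfl⟩ hiso'
  -- the preimage is `B` times the core
  set N' := N.comap π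
  let BN := BH.subgroupOf N'
  have hBN : BH ≤ N' := fun b hb => by
    rw [mem_comap, show π b = 1 from (QuotientGroup.eq_one_iff b).2 hb]; exact one_mem _
  have hBNp : IsPGroup 2 BN :=
    (((h.isPGroup.to_le hB).comap_of_injective H.subtype H.subtype_injective).comap_of_injective
      N'.subtype N'.subtype_injective)
  have hidx : ¬ 2 ∣ BN.index := by
    have e1 : BN.index * N'.index = BH.index := relIndex_mul_index hBN
    have e2 : BH.index = Nat.card (H ⧸ BH) := index_eq_card _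
    have e3 : N'.index = N.index := index_comap_of_surjective N (QuotientGroup.mk'_surjective BH)
    rw [e2, e3, ← N.card_mul_index] at e1
    rw [Nat.eq_of_mul_eq_mul_right (Nat.pos_of_ne_zero FiniteIndex.index_ne_zero) e1]
    exact hNodd.not_two_dvd_nat
  let SB : Sylow 2 N' := hBNp.toSylow hidx
  have hcent : normalizer ((SB : Subgroup N') : Set N') ≤ centralizer ((SB : Subgroup N') : Set N') :=
    fun y _ => mem_centralizer_iff.2 fun u hu => Subtype.ext (Subtype.ext
      (mem_centralizer_iff.1 (y : H).2 ((u : H) : G) (mem_subgroupOf.1 (mem_subgroupOf.1 hu))))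
  have hcompl := MonoidHom.ker_transferSylow_isComplement' SB hcent
  set K0 := (MonoidHom.transferSylow SB hcent).ker
  have hK0odd : Odd (Nat.card K0) := by
    rw [← Nat.not_even_iff_odd, even_iff_two_dvd]
    exact MonoidHom.not_dvd_card_ker_transferSylow SB hcent
  have hK0le : K0.map N'.subtype ≤ Cfsg.oddCore H := by
    haveI : (K0.map N'.subtype).Normal := by
      refine ⟨?_⟩
      rintro _ ⟨k, hk, rfl⟩ y
      haveI : N.Normal := hN
      refine ⟨⟨y * (k : H) * y⁻¹, Normal.conj_mem inferInstance _ k.2 y⟩, ?_, rfl⟩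
      refine MonoidHom.mem_ker.2 (orderOf_eq_one_iff.1 ?_)
      obtain ⟨e, he⟩ := IsPGroup.iff_card.1 SB.isPGroup'
      refine Nat.eq_one_of_dvd_coprimes (Nat.Coprime.pow_left e (Nat.coprime_two_left.2 hK0odd))
        (he ▸ orderOf_dvd_natCard _) ((orderOf_map_dvd _ _).trans ?_)
      rw [← Subgroup.orderOf_coe]
      show orderOf (y * (k : H) * y⁻¹) ∣ _
      rw [← MulAut.conj_apply, ← MulEquiv.coe_toMonoidHom, orderOf_injective _ (MulAut.conj y).injective,
        Subgroup.orderOf_coe]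
      exact Subgroup.orderOf_dvd_natCard K0 hk
    refine CfsgLib.PLocal.le_pPrimeCore (Nat.coprime_two_right.2 ?_)
    rw [← Nat.card_congr (K0.equivMapOfInjective _ N'.subtype_injective).toEquiv]
    exact hK0odd
  set O := coreIn H
  set B' := B ⊔ zpowers a with hB'
  set C' := centralizer (B' : Set G)
  have hB'A : B' ≤ A := sup_le hB (zpowers_le.2 ha)
  set OB := O ⊔ B'
  have hB'n : B' ≤ normalizer (O : Set G) := fun y hy => by
    have hyH : y ∈ H := hAH (hB'A hy)
    exact mem_normalizer_iff.2 fun z => ⟨fun hz => conj_coreIn hyH hz, fun hz => by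
      have := conj_coreIn (inv_mem hyH) hz
      rwa [show y⁻¹ * (y * z * y⁻¹) * y⁻¹⁻¹ = z by group] at this⟩
  have hOH : ∀ z ∈ H, ∀ x ∈ OB, z * x * z⁻¹ ∈ OB := by
    intro z hz x hx
    have hle : OB.map (MulAut.conj z).toMonoidHom ≤ OB := by
      rw [Subgroup.map_sup, hB', Subgroup.map_sup, MonoidHom.map_zpowers]
      refine sup_le (fun _ ⟨w, hw, e⟩ => e ▸ mem_sup_left (conj_coreIn hz hw)) (sup_le ?_ ?_)
      · rintro _ ⟨b, hb, rfl⟩
        show z * b * z⁻¹ ∈ OB
        rw [← mem_centralizer_iff.1 hz b hb, mul_inv_cancel_right]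
        exact mem_sup_right (mem_sup_left hb)
      · refine zpowers_le.2 ?_
        show z * a * z⁻¹ ∈ OB
        -- the commutator lies in `B O`
        set ah : H := ⟨a, hAH ha⟩
        set zh : H := ⟨z, hz⟩
        have hc : ah * zh * ah⁻¹ * zh⁻¹ ∈ N' := by
          rw [mem_comap, map_mul, map_mul, map_mul, map_inv, map_inv]
          exact hNc (π zh)
        obtain ⟨⟨k, b⟩, hkb⟩ := hcompl.2 (⟨_, hc⟩ : N')
        have hk : (((k : N') : H) : G) ∈ O := ⟨_, hK0le ⟨k, k.2, rfl⟩, rfl⟩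
        have hbB : (((b : N') : H) : G) ∈ B := mem_subgroupOf.1 (mem_subgroupOf.1 b.2)
        have e : a * z * a⁻¹ * z⁻¹ = (((k : N') : H) : G) * (((b : N') : H) : G) :=
          (congrArg (fun w : N' => ((w : H) : G)) hkb).symm
        rw [show z * a * z⁻¹ = (a * z * a⁻¹ * z⁻¹)⁻¹ * a by group, e]
        exact mul_mem (inv_mem (mul_mem (mem_sup_left hk) (mem_sup_right (mem_sup_left hbB))))
          (mem_sup_right (mem_sup_right (mem_zpowers a)))
    exact hle ⟨x, hx, rfl⟩
  -- Frattini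
  haveI : (OB.subgroupOf H).Normal :=
    ⟨fun x hx y => mem_subgroupOf.2 (hOH y y.2 x (mem_subgroupOf.1 hx))⟩
  have hOBH : OB ≤ H := sup_le (coreIn_le H) (hB'A.trans hAH)
  let W := (OB.subgroupOf H)
  let BW := (B'.subgroupOf H).subgroupOf W
  have hBWp : IsPGroup 2 BW :=
    (((h.isPGroup.to_le hB'A).comap_of_injective H.subtype H.subtype_injective).comap_of_injective
      W.subtype W.subtype_injective)
  have hidx2 : ¬ 2 ∣ BW.index := by
    have e1 : BW.index = B'.relIndex OB :=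
      relIndex_subgroupOf (K := OB) (L := H) hOBH
    have e2 : B'.relIndex OB ∣ Nat.card O := by
      let f : O → ↥OB ⧸ B'.subgroupOf OB := fun o => QuotientGroup.mk ⟨o, mem_sup_left o.2⟩
      have hf : Function.Bijective f := by
        refine ⟨fun o o' e => ?_, fun q => ?_⟩
        · have h1 : (o : G)⁻¹ * o' ∈ B' := mem_subgroupOf.1 (QuotientGroup.eq.1 e)
          have h2 := eq_one_of_sq_of_odd (odd_coreIn H) (mul_mem (inv_mem o.2) o'.2) (h.sq _ (hB'A h1))
          exact Subtype.ext (inv_mul_eq_one.1 h2)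
        · obtain ⟨⟨w, hw⟩, rfl⟩ := QuotientGroup.mk_surjective q
          have hw' : w ∈ ((O : Set G) * (B' : Set G)) := by
            rw [← coe_mul_of_right_le_normalizer_left O B' hB'n]; exact hw
          obtain ⟨o, ho, b, hb, rfl⟩ := Set.mem_mul.1 hw'
          refine ⟨⟨o, ho⟩, QuotientGroup.eq.2 (mem_subgroupOf.2 ?_)⟩
          show o⁻¹ * (o * b) ∈ B'
          rwa [inv_mul_cancel_left]
      rw [relIndex, index_eq_card, ← Nat.card_eq_of_bijective f hf]
    exact fun h2 => (odd_coreIn H).not_two_dvd_nat ((e1 ▸ h2).trans e2)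
  let SW : Sylow 2 W := hBWp.toSylow hidx2
  have hfr := Sylow.normalizer_sup_eq_top SW
  have hle : W ≤ (O.subgroupOf H) ⊔ normalizer ((SW : Subgroup W).map W.subtype : Set H) := by
    intro w hw
    have hw' : (w : G) ∈ ((O : Set G) * (B' : Set G)) := by
      rw [← coe_mul_of_right_le_normalizer_left O B' hB'n]; exact mem_subgroupOf.1 hw
    obtain ⟨o, ho, b, hb, e⟩ := Set.mem_mul.1 hw'
    rw [show w = (⟨o, coreIn_le H ho⟩ : H) * ⟨b, hAH (hB'A hb)⟩ from Subtype.ext e.symm]
    exact mul_mem_sup (mem_subgroupOf.2 ho) (Subgroup.le_normalizer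
      ⟨⟨_, mem_subgroupOf.2 (mem_sup_right hb)⟩, mem_subgroupOf.2 (mem_subgroupOf.2 hb), rfl⟩)
  set L := normalizer ((SW : Subgroup W).map W.subtype : Set H)
  have htop : O.subgroupOf H ⊔ L = ⊤ := eq_top_iff.2 (hfr ▸ sup_le le_sup_right hle)
  -- elements normalizing `B'`
  set O' := coreIn C'
  have hL : ∀ l ∈ L, (l : G) ∈ normalizer (B' : Set G) := by
    intro l hl
    refine mem_normalizer_iff.2 fun x => ?_
    have key : ∀ l ∈ L, ∀ x ∈ B', (l : G) * x * (l : G)⁻¹ ∈ B' := by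
      intro l hl x hx
      obtain ⟨w, hw, e⟩ := (mem_normalizer_iff.1 hl ⟨x, hAH (hB'A hx)⟩).1
        ⟨⟨_, mem_subgroupOf.2 (mem_sup_right hx)⟩, mem_subgroupOf.2 (mem_subgroupOf.2 hx), rfl⟩
      have := mem_subgroupOf.1 (mem_subgroupOf.1 hw)
      rw [show ((w : H) : G) = (l : G) * x * (l : G)⁻¹ from congrArg Subtype.val e] at this
      exact this
    refine ⟨key l hl x, fun hx => ?_⟩
    have := key _ (inv_mem hl) _ hx
    rwa [Subgroup.coe_inv, inv_inv, show (l : G)⁻¹ * (l * x * (l : G)⁻¹) * l = x by group] at this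
  have hLC : ∀ l ∈ L, (l : G) ∈ normalizer ((C' : Subgroup G) : Set G) := fun l hl => by
    have key : ∀ m, m ∈ normalizer (B' : Set G) → ∀ c ∈ C', m * c * m⁻¹ ∈ C' := fun m hm c hc =>
      mem_centralizer_iff.2 fun x hx => by
        have := mem_centralizer_iff.1 hc _ ((mem_normalizer_iff''.1 hm x).1 hx)
        calc x * (m * c * m⁻¹) = m * (m⁻¹ * x * m * c) * m⁻¹ := by group
          _ = m * (c * (m⁻¹ * x * m)) * m⁻¹ := by rw [this]
          _ = _ := by group
    refine mem_normalizer_iff.2 fun c => ⟨key _ (hL l hl) c, fun hc => ?_⟩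
    have := key _ (inv_mem (hL l hl)) _ hc
    rwa [inv_inv, show (l : G)⁻¹ * (l * c * (l : G)⁻¹) * l = c by group] at this
  haveI : (O.subgroupOf H).Normal :=
    ⟨fun x hx y => mem_subgroupOf.2 (conj_coreIn y.2 (mem_subgroupOf.1 hx))⟩
  have hO' : O' ≤ O := by
    have hC'H : C' ≤ H := centralizer_le (le_sup_left : B ≤ B')
    have hn : O' ≤ normalizer (O : Set G) := fun y hy => by
      have hyH : y ∈ H := hC'H (coreIn_le _ hy)
      exact mem_normalizer_iff.2 fun z => ⟨fun hz => conj_coreIn hyH hz, fun hz => by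
        have := conj_coreIn (inv_mem hyH) hz
        rwa [show y⁻¹ * (y * z * y⁻¹) * y⁻¹⁻¹ = z by group] at this⟩
    refine le_sup_right.trans (le_coreIn (N := O ⊔ O') (sup_le (coreIn_le H) ((coreIn_le _).trans hC'H))
      (odd_sup (odd_coreIn H) (odd_coreIn _) hn) ?_)
    intro y hy x hx
    obtain ⟨o, ho, l, hl, e⟩ := (Subgroup.mem_sup_of_normal_left).1
      (show (⟨y, hy⟩ : H) ∈ O.subgroupOf H ⊔ L by rw [htop]; exact mem_top _)
    have hle : (O ⊔ O').map (MulAut.conj (l : G)).toMonoidHom ≤ O ⊔ O' := by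
      rw [Subgroup.map_sup]
      exact sup_le (fun _ ⟨z, hz, e⟩ => e ▸ mem_sup_left (conj_coreIn l.2 hz))
        (fun _ ⟨z, hz, e⟩ => e ▸ mem_sup_right (map_coreIn (hLC l hl) hz))
    have hoO : (o : G) ∈ O ⊔ O' := mem_sup_left (mem_subgroupOf.1 ho)
    rw [show y = (o : G) * l from (congrArg Subtype.val e).symm,
      show (o : G) * l * x * ((o : G) * l)⁻¹ = o * (l * x * (l : G)⁻¹) * (o : G)⁻¹ by group]
    exact mul_mem (mul_mem hoO (hle ⟨x, hx, rfl⟩)) (inv_mem hoO)
  intro y hy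
  obtain ⟨o, ho, l, hl, e⟩ := (Subgroup.mem_sup_of_normal_left).1
    (show (⟨y, hy⟩ : H) ∈ O.subgroupOf H ⊔ L by rw [htop]; exact mem_top _)
  obtain ⟨c, hc, hcl⟩ := h.exists_normalizing (h.centBa hB ha) (y := (l : G)) fun x hx =>
    (mem_normalizer_iff.1 (hLC l hl) x).1 (h.centBa hB ha hx)
  obtain ⟨r, hr, n, hn, ec⟩ := hgood c⁻¹ (inv_mem hc)
  refine ⟨(o : G) * r, mul_mem (mem_subgroupOf.1 ho) (hO' hr), n * (c * l), mul_mem hn hcl, ?_⟩
  rw [show y = (o : G) * l from (congrArg Subtype.val e).symm]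
  calc (o : G) * l = o * (c⁻¹ * (c * l)) := by group
    _ = o * (r * n * (c * l)) := by rw [ec]
    _ = _ := by group

/-- Among four cosets two unfused ones leave an element fused to no other coset. -/
theorem Closed.exists_isolated_of_index_four {B : Subgroup G} (hB : B ≤ A)
    (hcard : Nat.card A = 4 * Nat.card B) {a a' : G} (ha : a ∈ A) (haB : a ∉ B) (ha' : a' ∈ A)
    (ha'B : a' ∉ B) (hne : ¬ Fused A B a a') :
    ∃ x ∈ A, x ∉ B ∧ ∀ v ∈ A, Fused A B x v → x⁻¹ * v ∈ B := by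
  classical
  by_contra hall
  push Not at hall
  have haa : a⁻¹ * a' ∉ B := fun e => hne ⟨1, one_mem _, one_mem _, by simpa using e⟩
  let c : Fin 4 → A := ![1, ⟨a, ha⟩, ⟨a', ha'⟩, ⟨a * a', mul_mem ha ha'⟩]
  let f : Fin 4 → ↥A ⧸ B.subgroupOf A := fun i => QuotientGroup.mk (c i)
  have hq : Nat.card (↥A ⧸ B.subgroupOf A) = 4 := by
    have e := card_eq_card_quotient_mul_card_subgroup (B.subgroupOf A)
    rw [Nat.card_congr (subgroupOfEquivOfLe hB).toEquiv, hcard] at e
    exact (Nat.eq_of_mul_eq_mul_right Nat.card_pos e).symm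
  have hf : Function.Injective f := by
    intro i j e
    by_contra hij
    have e1 := mem_subgroupOf.1 (QuotientGroup.eq.1 e)
    have e2 := mem_subgroupOf.1 (QuotientGroup.eq.1 e.symm)
    have haa' : a⁻¹ * (a * a') ∉ B := by rwa [inv_mul_cancel_left]
    have ha'a : a'⁻¹ * (a * a') ∉ B := by
      rwa [h.comm a ha a' ha', inv_mul_cancel_left]
    have hmul : a * a' ∉ B := by
      intro hm
      exact haa (by rwa [h.inv_eq ha])
    fin_cases i <;> fin_cases j <;> first
      | exact hij rfl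
      | exact haB (by simpa [c] using e1)
      | exact ha'B (by simpa [c] using e1)
      | exact hmul (by simpa [c] using e1)
      | exact haB (by simpa [c] using e2)
      | exact ha'B (by simpa [c] using e2)
      | exact hmul (by simpa [c] using e2)
      | exact haa (by simpa [c] using e1)
      | exact haa (by simpa [c] using e2)
      | exact haa' (by simpa [c] using e1)
      | exact haa' (by simpa [c] using e2)
      | exact ha'a (by simpa [c] using e1)
      | exact ha'a (by simpa [c] using e2)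
  have hb : Function.Bijective f :=
    (Nat.bijective_iff_injective_and_card f).2 ⟨hf, by rw [hq, Nat.card_fin]⟩
  have hmove : ∀ x, x ∈ A → x ∉ B → (x⁻¹ * (a * a') ∉ B) → (x = a ∨ x = a') →
      Fused A B x (a * a') := by
    intro x hx hxB _ hxc
    obtain ⟨v, hv, hfu, hxv⟩ := hall x hx hxB
    obtain ⟨n, hn, hnC, e⟩ := hfu
    obtain ⟨i, hi⟩ := hb.2 (QuotientGroup.mk ⟨v, hv⟩)
    have ei : (c i : G)⁻¹ * v ∈ B := mem_subgroupOf.1 (QuotientGroup.eq.1 hi)
    have e' : (n * x * n⁻¹)⁻¹ * (c i : G) ∈ B := by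
      have := mul_mem e (inv_mem ei)
      rwa [show (n * x * n⁻¹)⁻¹ * v * ((c i : G)⁻¹ * v)⁻¹ = (n * x * n⁻¹)⁻¹ * (c i : G) by group] at this
    fin_cases i
    · exfalso
      have hvB : v ∈ B := by simpa [c] using ei
      have h1 : (n * x * n⁻¹)⁻¹ ∈ B := by
        have := mul_mem e (inv_mem hvB)
        rwa [mul_inv_cancel_right] at this
      have h2 := inv_mem h1
      rw [inv_inv] at h2
      apply hxB
      have h3 := mem_centralizer_iff.1 hnC _ h2
      have : n * x * n⁻¹ = x := by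
        calc n * x * n⁻¹ = n⁻¹ * (n * (n * x * n⁻¹)) * 1 := by group
          _ = n⁻¹ * (n * x * n⁻¹ * n) * 1 := by rw [h3]
          _ = x := by group
      rwa [this] at h2
    all_goals simp [c] at e'
    · rcases hxc with rfl | rfl
      · exact absurd ei (by simpa [c] using hxv)
      · exact absurd (h.fused_symm hB ⟨n, hn, hnC, by simpa [mul_assoc] using e'⟩) hne
    · rcases hxc with rfl | rfl
      · exact absurd ⟨n, hn, hnC, by simpa [mul_assoc] using e'⟩ hne
      · exact absurd ei (by simpa [c] using hxv)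
    · exact ⟨n, hn, hnC, by simpa [mul_assoc] using e'⟩
  refine hne (h.fused_trans hB ha (hmove a ha haB (by rwa [inv_mul_cancel_left]) (Or.inl rfl))
    (h.fused_symm hB (hmove a' ha' ha'B ?_ (Or.inr rfl))))
  rwa [h.comm a ha a' ha', inv_mul_cancel_left]

/-- The step at rank at least three. -/
theorem Closed.good_of_rank {B : Subgroup G} (hB : B ≤ A) (h8 : 8 * Nat.card B ≤ Nat.card A)
    (hIH : ∀ a ∈ A, a ∉ B → Good A (B ⊔ zpowers a))
    {a₁ a₂ : G} (ha₁ : a₁ ∈ A) (ha₁B : a₁ ∉ B) (ha₂ : a₂ ∈ A) (ha₂B : a₂ ∉ B)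
    (hne : ¬ Fused A B a₁ a₂) : Good A B := by
  classical
  haveI : Fact (Nat.Prime 2) := ⟨Nat.prime_two⟩
  set H := centralizer (B : Set G) with hH
  have hAH : A ≤ H := h.centB hB
  -- a complement of `B` in `A`
  obtain ⟨A0, hA0A, hA0B, hsup⟩ : ∃ A0 ≤ A, A0 ⊓ B = ⊥ ∧ A0 ⊔ B = A := by
    obtain ⟨A0, -, ⟨h1, h2⟩, hmax⟩ := Finite.exists_le_maximal
      (p := fun X : Subgroup G => X ≤ A ∧ X ⊓ B = ⊥) (a := ⊥) ⟨bot_le, bot_inf_eq _⟩
    refine ⟨A0, h1, h2, le_antisymm (sup_le h1 hB) fun x hx => ?_⟩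
    by_contra hxn
    refine hxn (mem_sup_left (hmax (y := A0 ⊔ zpowers x) ⟨sup_le h1 (zpowers_le.2 hx), ?_⟩
      le_sup_left (mem_sup_right (mem_zpowers x))))
    refine eq_bot_iff.2 fun y hy => ?_
    obtain ⟨hy1, hy2⟩ := mem_inf.1 hy
    have hn : zpowers x ≤ normalizer (A0 : Set G) := fun z hz => mem_normalizer_iff.2 fun w => by
      constructor
      · intro hw
        rwa [h.comm z (zpowers_le.2 hx hz) w (h1 hw), mul_inv_cancel_right]
      · intro hw
        have hwA : w ∈ A := by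
          have := mul_mem (mul_mem (inv_mem (zpowers_le.2 hx hz)) (h1 hw)) (zpowers_le.2 hx hz)
          rwa [show z⁻¹ * (z * w * z⁻¹) * z = w by group] at this
        rwa [h.comm z (zpowers_le.2 hx hz) w hwA, mul_inv_cancel_right] at hw
    have hy' : y ∈ ((A0 : Set G) * (zpowers x : Set G)) := by
      rw [← coe_mul_of_right_le_normalizer_left A0 _ hn]; exact hy1
    obtain ⟨u, hu, z, hz, rfl⟩ := Set.mem_mul.1 hy'
    obtain ⟨i, rfl⟩ := mem_zpowers_iff.1 hz
    rcases Int.even_or_odd i with ⟨j, rfl⟩ | ⟨j, rfl⟩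
    · have e1 : x ^ (j + j) = 1 := by
        rw [zpow_add, ← (Commute.refl x).mul_zpow, h.sq x hx, one_zpow]
      rw [e1, mul_one] at hy2 ⊢
      rw [← h2]; exact mem_inf.2 ⟨hu, hy2⟩
    · have e1 : x ^ (2 * j + 1) = x := by
        rw [zpow_add, two_mul, zpow_add, ← (Commute.refl x).mul_zpow, h.sq x hx, one_zpow, one_mul, zpow_one]
      rw [e1] at hy2
      refine absurd ?_ hxn
      rw [show x = u⁻¹ * (u * x) by group]
      exact mul_mem (mem_sup_left (inv_mem hu)) (mem_sup_right hy2)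
  have hA08 : 8 ≤ Nat.card A0 := by
    let f : A0 × B → A := fun p => ⟨p.1.1 * p.2.1, mul_mem (hA0A p.1.2) (hB p.2.2)⟩
    have hf : Function.Surjective f := by
      rintro ⟨x, hx⟩
      have hx' : x ∈ ((A0 : Set G) * (B : Set G)) := by
        rw [← coe_mul_of_right_le_normalizer_left A0 B fun b hb => mem_normalizer_iff.2 fun w => ?_]
        · exact (SetLike.mem_coe.2 (hsup.symm ▸ hx : x ∈ A0 ⊔ B))
        · constructor
          · intro hw
            rwa [h.comm b (hB hb) w (hA0A hw), mul_inv_cancel_right]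
          · intro hw
            have hwA : w ∈ A := by
              have := mul_mem (mul_mem (inv_mem (hB hb)) (hA0A hw)) (hB hb)
              rwa [show b⁻¹ * (b * w * b⁻¹) * b = w by group] at this
            rwa [h.comm b (hB hb) w hwA, mul_inv_cancel_right] at hw
      obtain ⟨u, hu, b, hb, rfl⟩ := Set.mem_mul.1 hx'
      exact ⟨(⟨u, hu⟩, ⟨b, hb⟩), rfl⟩
    have := Nat.card_le_card_of_surjective f hf
    rw [Nat.card_prod] at this
    by_contra hc
    have hlt : Nat.card A0 * Nat.card B < 8 * Nat.card B :=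
      Nat.mul_lt_mul_of_pos_right (by omega) Nat.card_pos
    omega
  have hA0ne : ∀ a ∈ A0, a ≠ 1 → a ∉ B := fun a ha ha1 hab => ha1 (by
    have : a ∈ A0 ⊓ B := mem_inf.2 ⟨ha, hab⟩
    rwa [hA0B, mem_bot] at this)
  let θ : G → Subgroup G := fun a => coreIn (centralizer ((B ⊔ zpowers a : Subgroup G) : Set G))
  have hθinv : ∀ a ∈ A, ∀ b ∈ A, ∀ x ∈ θ a, b * x * b⁻¹ ∈ θ a := fun a ha b hb x hx =>
    conj_coreIn (h.centBa hB ha hb) hx
  have hsft := Cfsg.Agent.S0217.result (p := 2) A0 (fun a ha b hb => h.comm a (hA0A ha) b (hA0A hb))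
    (fun a ha => by rw [_root_.sq, h.sq a (hA0A ha)]) (by omega) θ
    (fun a _ _ x hx => mem_centralizer_singleton_iff.2 (mem_centralizer_sup (coreIn_le _ hx)).2)
    (fun a _ _ => by rw [← even_iff_two_dvd, Nat.not_even_iff_odd]; exact odd_coreIn _)
    (fun a ha _ b hb => hθinv a (hA0A ha) b (hA0A hb))
    (fun a _ _ => Cfsg.Agent.S0205.result (odd_coreIn _))
    (fun a ha _ b hb hb1 => h.balance hB (hA0A ha) (hA0A hb) (hIH b (hA0A hb) (hA0ne b hb hb1)))
  set W := ⨆ b : {a : G // a ∈ A0 ∧ a ≠ 1}, θ (b : G) with hW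
  have hθW : ∀ a ∈ A, a ∉ B → θ a ≤ W := by
    intro a ha haB
    have hsame : ∀ x y : G, y⁻¹ * x ∈ B → B ⊔ zpowers x ≤ B ⊔ zpowers y := fun x y hxy => by
      refine sup_le le_sup_left (zpowers_le.2 ?_)
      rw [show x = y * (y⁻¹ * x) by group]
      exact mul_mem (mem_sup_right (mem_zpowers y)) (mem_sup_left hxy)
    have ha' : a ∈ ((B : Set G) * (A0 : Set G)) := by
      rw [← coe_mul_of_right_le_normalizer_left B A0 fun u hu => mem_normalizer_iff.2 fun w => ?_]
      · rw [sup_comm, hsup]; exact ha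
      · constructor
        · intro hw
          rwa [h.comm u (hA0A hu) w (hB hw), mul_inv_cancel_right]
        · intro hw
          have hwA : w ∈ A := by
            have := mul_mem (mul_mem (inv_mem (hA0A hu)) (hB hw)) (hA0A hu)
            rwa [show u⁻¹ * (u * w * u⁻¹) * u = w by group] at this
          rwa [h.comm u (hA0A hu) w hwA, mul_inv_cancel_right] at hw
    obtain ⟨b, hb, u, hu, rfl⟩ := Set.mem_mul.1 ha'
    have hu1 : u ≠ 1 := fun e => haB (by rw [e, mul_one]; exact hb)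
    have e : B ⊔ zpowers (b * u) = B ⊔ zpowers u := le_antisymm
      (hsame _ _ (by rw [h.comm b (hB hb) u (hA0A hu), inv_mul_cancel_left]; exact hb))
      (hsame _ _ (by rw [mul_inv_rev, mul_assoc, h.comm b⁻¹ (inv_mem (hB hb)) u (hA0A hu),
        inv_mul_cancel_left]; exact inv_mem hb))
    show coreIn (centralizer ((B ⊔ zpowers (b * u) : Subgroup G) : Set G)) ≤ W
    rw [e]
    exact le_iSup (fun b : {a : G // a ∈ A0 ∧ a ≠ 1} => θ (b : G)) ⟨u, hu, hu1⟩
  have hWH : W ≤ H := iSup_le fun b x hx => (mem_centralizer_sup (coreIn_le _ hx)).1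
  set M := normalizer (A : Set G) ⊓ H with hM
  have hMW : ∀ n ∈ M, ∀ x ∈ W, n * x * n⁻¹ ∈ W := by
    intro n hn x hx
    obtain ⟨hnA, hnH⟩ := mem_inf.1 hn
    have hle : W.map (MulAut.conj n).toMonoidHom ≤ W := by
      rw [hW, Subgroup.map_iSup]
      refine iSup_le fun b => ?_
      have hb' : n * (b : G) * n⁻¹ ∈ A := conj_mem hnA (hA0A b.2.1)
      have hb'' : n * (b : G) * n⁻¹ ∉ B := fun e => hA0ne _ b.2.1 b.2.2 (by
        have e' := mem_centralizer_iff.1 hnH _ e
        have e3 : n * (b : G) * n⁻¹ = (b : G) := by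
          calc n * (b : G) * n⁻¹ = n⁻¹ * (n * (n * (b : G) * n⁻¹)) := by group
            _ = n⁻¹ * (n * (b : G) * n⁻¹ * n) := by rw [e']
            _ = (b : G) := by group
        rwa [e3] at e)
      refine le_trans ?_ (hθW _ hb' hb'')
      refine le_coreIn ?_ ?_ ?_
      · rintro _ ⟨y, hy, rfl⟩
        obtain ⟨hyH, hyb⟩ := mem_centralizer_sup (coreIn_le _ hy)
        show n * y * n⁻¹ ∈ _
        refine mem_centralizer_sup_of (mul_mem (mul_mem hnH hyH) (inv_mem hnH)) ?_
        calc n * y * n⁻¹ * (n * (b : G) * n⁻¹) = n * (y * b) * n⁻¹ := by group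
          _ = n * (b * y) * n⁻¹ := by rw [hyb]
          _ = _ := by group
      · rw [← Nat.card_congr ((θ (b : G)).equivMapOfInjective _ (MulAut.conj n).injective).toEquiv]
        exact odd_coreIn _
      · rintro y hy _ ⟨s, hs, rfl⟩
        obtain ⟨hyH, hyb⟩ := mem_centralizer_sup hy
        refine ⟨n⁻¹ * y * n * s * (n⁻¹ * y * n)⁻¹, conj_coreIn ?_ hs, ?_⟩
        · refine mem_centralizer_sup_of (mul_mem (mul_mem (inv_mem hnH) hyH) hnH) ?_
          calc n⁻¹ * y * n * (b : G) = n⁻¹ * (y * (n * (b : G) * n⁻¹)) * n := by group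
            _ = n⁻¹ * (n * (b : G) * n⁻¹ * y) * n := by rw [hyb]
            _ = _ := by group
        · show n * (n⁻¹ * y * n * s * (n⁻¹ * y * n)⁻¹) * n⁻¹ = y * (n * s * n⁻¹) * y⁻¹
          group
    exact hle ⟨x, hx, rfl⟩
  have hMn : M ≤ normalizer (W : Set G) := fun n hn => mem_normalizer_iff.2 fun x =>
    ⟨hMW n hn x, fun hx => by
      have := hMW _ (inv_mem hn) _ hx
      rwa [inv_inv, show n⁻¹ * (n * x * n⁻¹) * n = x by group] at this⟩
  set U := W ⊔ M
  have hCU : ∀ a ∈ A, a ∉ B → ∀ y ∈ H, y * a = a * y → y ∈ U := by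
    intro a ha haB y hy hya
    obtain ⟨r, hr, n, hn, rfl⟩ := hIH a ha haB y (mem_centralizer_sup_of hy hya)
    refine mul_mem (mem_sup_left (hθW a ha haB hr)) (mem_sup_right (mem_inf.2 ⟨hn, ?_⟩))
    have := mul_mem (inv_mem (mem_centralizer_sup (coreIn_le _ hr)).1) hy
    rwa [inv_mul_cancel_left] at this
  -- the dihedral trick
  have htrick : ∀ a ∈ A, a ∉ B → ∀ a' ∈ A, a' ∉ B → ¬ Fused A B a a' → ∀ k ∈ H, k * a' * k⁻¹ ∈ U := by
    intro a ha haB a' ha' ha'B hna k hk
    set b := k * a' * k⁻¹ with hb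
    have hbH : b ∈ H := mul_mem (mul_mem hk (hAH ha')) (inv_mem hk)
    have hb2 : b * b = 1 := by
      rw [hb, show k * a' * k⁻¹ * (k * a' * k⁻¹) = k * (a' * a') * k⁻¹ by group, h.sq a' ha', mul_one,
        mul_inv_cancel]
    have ha2 := h.sq a ha
    set D := zpowers a ⊔ zpowers b with hD
    obtain ⟨T, hT⟩ := (((h.isPGroup.to_le (zpowers_le.2 ha)).comap_of_injective D.subtype
      D.subtype_injective : IsPGroup 2 ((zpowers a).subgroupOf D))).exists_le_sylow
    have hbp : IsPGroup 2 ((zpowers b).subgroupOf D) := by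
      refine IsPGroup.comap_of_injective (H := zpowers b) ?_ D.subtype D.subtype_injective
      refine IsPGroup.iff_card.2 ?_
      rw [Nat.card_zpowers]
      obtain ⟨i, -, hi⟩ := (Nat.dvd_prime_pow Nat.prime_two).1
        (orderOf_dvd_of_pow_eq_one (x := b) (n := 2 ^ 1) (by rw [pow_one, _root_.sq, hb2]))
      exact ⟨i, hi⟩
    obtain ⟨T', hT'⟩ := hbp.exists_le_sylow
    obtain ⟨d, hd⟩ := MulAction.exists_smul_eq D T' T
    have hdb : (d : G) * b * (d : G)⁻¹ ∈ (T : Subgroup D).map D.subtype := by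
      have hbD : b ∈ D := mem_sup_right (mem_zpowers b)
      have hm : d * (⟨b, hbD⟩ : D) * d⁻¹ ∈ (T : Subgroup D) := by
        rw [← hd]; exact ⟨_, hT' (mem_subgroupOf.2 (mem_zpowers b)), rfl⟩
      exact ⟨_, hm, rfl⟩
    have haT : a ∈ (T : Subgroup D).map D.subtype :=
      ⟨⟨a, mem_sup_left (mem_zpowers a)⟩, hT (mem_subgroupOf.2 (mem_zpowers a)), rfl⟩
    set b' := (d : G) * b * (d : G)⁻¹ with hb'
    have hb'e : b' = (d : G) * k * a' * ((d : G) * k)⁻¹ := by rw [hb', hb]; group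
    have hab' : a * b' = b' * a := by
      have := h.commute_of_conj (T.isPGroup'.map D.subtype) ha ha' (g := 1) (k := (d : G) * k)
        (by simpa using haT) (hb'e ▸ hdb)
      rw [← hb'e] at this
      simpa using this
    have hDH : D ≤ H := sup_le (zpowers_le.2 (hAH ha)) (zpowers_le.2 hbH)
    have hdH : (d : G) ∈ H := hDH d.2
    set z := a * b'
    -- `z` commutes with `b`
    have hzb : z * b = b * z := by
      set t := a * b with ht
      have hat : a * t * a⁻¹ = t⁻¹ := by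
        rw [ht, mul_inv_rev, inv_eq_of_mul_eq_one_left hb2, h.inv_eq ha]
        calc a * (a * b) * a = (a * a) * b * a := by group
          _ = b * a := by rw [ha2, one_mul]
      have hform : ∀ x ∈ D, ∃ i : ℤ, x = t ^ i ∨ x = t ^ i * a := by
        have hti : ∀ i : ℤ, a * t ^ i = t ^ (-i) * a := fun i => by
          rw [← mul_inv_eq_iff_eq_mul, ← conj_zpow, hat, inv_zpow']
        intro x hx
        rw [hD, zpowers_eq_closure, zpowers_eq_closure, ← Subgroup.closure_union] at hx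
        refine Subgroup.closure_induction (p := fun x _ => ∃ i : ℤ, x = t ^ i ∨ x = t ^ i * a) ?_ ?_ ?_ ?_ hx
        · rintro x (rfl | rfl)
          · exact ⟨0, Or.inr (by rw [zpow_zero, one_mul])⟩
          · refine ⟨-1, Or.inr ?_⟩
            rw [zpow_neg_one, ht, mul_inv_rev, inv_eq_of_mul_eq_one_left hb2, inv_mul_cancel_right]
        · exact ⟨0, Or.inl (zpow_zero t).symm⟩
        · rintro u v - - ⟨i, hu⟩ ⟨j, hv⟩
          rcases hu with rfl | rfl <;> rcases hv with rfl | rfl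
          · exact ⟨i + j, Or.inl (zpow_add t i j).symm⟩
          · exact ⟨i + j, Or.inr (by rw [zpow_add]; group)⟩
          · exact ⟨i + -j, Or.inr (by rw [mul_assoc, hti, zpow_add]; group)⟩
          · exact ⟨i + -j, Or.inl (by
              rw [show t ^ i * a * (t ^ j * a) = t ^ i * (a * t ^ j) * a by group, hti,
                show t ^ i * (t ^ (-j) * a) * a = t ^ i * t ^ (-j) * (a * a) by group, ha2, mul_one,
                zpow_add])⟩
        · rintro u - ⟨i, rfl | rfl⟩
          · exact ⟨-i, Or.inl (zpow_neg t i).symm⟩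
          · exact ⟨i, Or.inr (by rw [mul_inv_rev, h.inv_eq ha, ← zpow_neg, hti, neg_neg])⟩
      have hb_eq : b = a * t := by rw [ht, ← mul_assoc, ha2, one_mul]
      obtain ⟨i, hz⟩ : ∃ i : ℤ, z = t ^ i := by
        have hti : ∀ i : ℤ, a * t ^ i = t ^ (-i) * a := fun i => by
          rw [← mul_inv_eq_iff_eq_mul, ← conj_zpow, hat, inv_zpow']
        obtain ⟨j, hdj | hdj⟩ := hform d d.2
        · refine ⟨-j + 1 + -j, ?_⟩
          show a * b' = _
          rw [hb', hdj, hb_eq, show a * (t ^ j * (a * t) * (t ^ j)⁻¹) = (a * t ^ j) * a * t * (t ^ j)⁻¹ by group,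
            hti, show t ^ (-j) * a * a * t * (t ^ j)⁻¹ = t ^ (-j) * (a * a) * t * (t ^ j)⁻¹ by group, ha2,
            mul_one, ← zpow_neg, zpow_add, zpow_add, zpow_one]
        · refine ⟨-j + -1 + -j, ?_⟩
          show a * b' = _
          rw [hb', hdj, hb_eq,
            show a * (t ^ j * a * (a * t) * (t ^ j * a)⁻¹) = (a * t ^ j) * (a * a) * t * a⁻¹ * (t ^ j)⁻¹ by group,
            hti, ha2, mul_one,
            show t ^ (-j) * a * t * a⁻¹ * (t ^ j)⁻¹ = t ^ (-j) * (a * t * a⁻¹) * (t ^ j)⁻¹ by group, hat,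
            ← zpow_neg, zpow_add, zpow_add, zpow_neg_one]
      have hza : z * a = a * z := by
        show a * b' * a = a * (a * b')
        rw [mul_assoc, ← hab']
      have hzt : z * t = t * z := by rw [hz]; exact ((Commute.refl t).zpow_left i).eq
      have hc : Commute z (a * t) := Commute.mul_right hza hzt
      rw [hb_eq]
      exact hc.eq
    -- bring `b'` into `A` inside `C(B a)`
    set K := centralizer ((B ⊔ zpowers a : Subgroup G) : Set G)
    have hb'K : b' ∈ K := mem_centralizer_sup_of (mul_mem (mul_mem hdH hbH) (inv_mem hdH)) hab'.symm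
    obtain ⟨c, hc, hcA⟩ := h.exists_move (K := K) (h.centBa hB ha) ha' (g := (d : G) * k)
      (hb'e ▸ hb'K)
    rw [← hb'e] at hcA
    obtain ⟨hcH, hca⟩ := mem_centralizer_sup hc
    have hz' : c * z * c⁻¹ = a * (c * b' * c⁻¹) := by
      show c * (a * b') * c⁻¹ = _
      rw [← mul_assoc, hca]
      group
    have hz'A : c * z * c⁻¹ ∈ A := hz' ▸ mul_mem ha hcA
    have hz'B : c * z * c⁻¹ ∉ B := by
      intro e
      refine hna (h.fused_symm hB ?_)
      refine h.fused_of_conj hB ha' ha (g := c * ((d : G) * k)) (mul_mem hcH (mul_mem hdH hk)) ?_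
      rw [show c * ((d : G) * k) * a' * (c * ((d : G) * k))⁻¹ = c * b' * c⁻¹ by rw [hb'e]; group,
        h.inv_eq hcA, h.comm _ hcA a ha, ← hz']
      exact e
    have hcU : c ∈ U := hCU a ha haB c hcH hca
    have hcb : c * b * c⁻¹ ∈ U := hCU _ hz'A hz'B _ (mul_mem (mul_mem hcH hbH) (inv_mem hcH)) (by
      calc c * b * c⁻¹ * (c * z * c⁻¹) = c * (b * z) * c⁻¹ := by group
        _ = c * (z * b) * c⁻¹ := by rw [hzb]
        _ = _ := by group)
    have := mul_mem (mul_mem (inv_mem hcU) hcb) hcU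
    rwa [show c⁻¹ * (c * b * c⁻¹) * c = b by group] at this
  have hAll : ∀ k ∈ H, ∀ x ∈ A, k * x * k⁻¹ ∈ U := by
    intro k hk x hx
    by_cases hxB : x ∈ B
    · rw [← mem_centralizer_iff.1 hk x hxB, mul_inv_cancel_right]
      exact mem_sup_right (mem_inf.2 ⟨Subgroup.le_normalizer hx, hAH hx⟩)
    by_cases h1 : Fused A B a₁ x
    · refine htrick a₂ ha₂ ha₂B x hx hxB (fun e => hne ?_) k hk
      exact h.fused_trans hB ha₁ h1 (h.fused_symm hB e)
    · exact htrick a₁ ha₁ ha₁B x hx hxB h1 k hk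
  have hUH : U ≤ H := sup_le hWH inf_le_right
  have hAU : A ≤ U := fun x hx => mem_sup_right (mem_inf.2 ⟨Subgroup.le_normalizer hx, hAH hx⟩)
  have hHU : ∀ k ∈ H, k ∈ U := by
    intro k hk
    obtain ⟨c, hc, hn⟩ := h.exists_normalizing hAU (y := k) (hAll k hk)
    have : c * k ∈ U := mem_sup_right (mem_inf.2 ⟨hn, mul_mem (hUH hc) hk⟩)
    have := mul_mem (inv_mem hc) this
    rwa [inv_mul_cancel_left] at this
  intro k hk
  have hk' : k ∈ ((W : Set G) * (M : Set G)) := by
    rw [← coe_mul_of_right_le_normalizer_left W M hMn]; exact hHU k hk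
  obtain ⟨w, hw, n, hn, rfl⟩ := Set.mem_mul.1 hk'
  refine ⟨w, ?_, n, (mem_inf.1 hn).1, rfl⟩
  refine le_coreIn (K := H) hWH ?_ ?_ hw
  · rw [← Nat.not_even_iff_odd, even_iff_two_dvd]; exact hsft.1
  · intro y hy x hx
    have hy' : y ∈ ((W : Set G) * (M : Set G)) := by
      rw [← coe_mul_of_right_le_normalizer_left W M hMn]; exact hHU y hy
    obtain ⟨w', hw', n', hn', rfl⟩ := Set.mem_mul.1 hy'
    rw [show w' * n' * x * (w' * n')⁻¹ = w' * (n' * x * n'⁻¹) * w'⁻¹ by group]
    exact mul_mem (mul_mem hw' (hMW n' hn' x hx)) (inv_mem hw')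

/-- **Tame strongly closed subgroups.** -/
theorem Closed.good {B : Subgroup G} (hB : B ≤ A)
    (tame : ∀ B ≤ A, 4 * Nat.card B ≤ Nat.card A →
      ∃ u ∈ A, ∃ v ∈ A, u ∉ B ∧ v ∉ B ∧ ¬ Fused A B u v) : Good A B := by
  classical
  haveI : Fact (Nat.Prime 2) := ⟨Nat.prime_two⟩
  suffices hind : ∀ d, ∀ B ≤ A, Nat.card A - Nat.card B ≤ d → Good A B from hind _ B hB le_rfl
  intro d
  induction d using Nat.strong_induction_on with
  | _ d ih =>
    intro B hB hd
    by_cases e : B = A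
    · subst e; exact h.good_self
    have hlt : B < A := lt_of_le_of_ne hB e
    have hIH : ∀ a ∈ A, a ∉ B → Good A (B ⊔ zpowers a) := by
      intro a ha haB
      have h1 : Nat.card B < Nat.card (B ⊔ zpowers a : Subgroup G) := by
        refine lt_of_le_of_ne (Subgroup.card_le_of_le le_sup_left) fun ec => haB ?_
        rw [Subgroup.eq_of_le_of_card_ge (le_sup_left : B ≤ B ⊔ zpowers a) ec.ge]
        exact mem_sup_right (mem_zpowers a)
      have h2 : B ⊔ zpowers a ≤ A := sup_le hB (zpowers_le.2 ha)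
      have h3 := Subgroup.card_le_of_le h2
      exact ih (Nat.card A - Nat.card (B ⊔ zpowers a : Subgroup G)) (by omega) _ h2 le_rfl
    obtain ⟨i, hi⟩ := IsPGroup.iff_card.1 h.isPGroup
    obtain ⟨j, hj⟩ := IsPGroup.iff_card.1 (h.isPGroup.to_le hB)
    have hji : j < i := by
      have : Nat.card B < Nat.card A := by
        refine lt_of_le_of_ne (Subgroup.card_le_of_le hB) fun ec => e ?_
        exact Subgroup.eq_of_le_of_card_ge hB ec.ge
      rw [hi, hj] at this
      exact (Nat.pow_lt_pow_iff_right (by norm_num)).1 this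
    rcases (show i = j + 1 ∨ j + 2 ≤ i by omega) with e1 | e1
    · obtain ⟨a, ha, haB⟩ := SetLike.exists_of_lt hlt
      refine h.good_of_isolated hB ha haB (hIH a ha haB) fun v hv hfu => ?_
      have htop : B ⊔ zpowers a = A := by
        refine Subgroup.eq_of_le_of_card_ge (sup_le hB (zpowers_le.2 ha)) ?_
        obtain ⟨k, hk⟩ := IsPGroup.iff_card.1 (h.isPGroup.to_le (sup_le hB (zpowers_le.2 ha)))
        have : Nat.card B < Nat.card (B ⊔ zpowers a : Subgroup G) := by
          refine lt_of_le_of_ne (Subgroup.card_le_of_le le_sup_left) fun ec => haB ?_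
          rw [Subgroup.eq_of_le_of_card_ge (le_sup_left : B ≤ B ⊔ zpowers a) ec.ge]
          exact mem_sup_right (mem_zpowers a)
        rw [hk, hj] at this
        rw [hk, hi, e1]
        exact Nat.pow_le_pow_right (by norm_num) ((Nat.pow_lt_pow_iff_right (by norm_num)).1 this)
      -- two cosets
      by_contra hav
      have hidx : (B.subgroupOf A).index = 2 := by
        have := (B.subgroupOf A).card_mul_index
        rw [Nat.card_congr (subgroupOfEquivOfLe hB).toEquiv, hi, hj, e1, pow_succ] at this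
        exact Nat.eq_of_mul_eq_mul_left (pow_pos (by norm_num) j) this
      have hvB : v ∈ B := by
        have := (Subgroup.mul_mem_iff_of_index_two hidx (a := (⟨a, ha⟩ : A)⁻¹) (b := ⟨v, hv⟩))
        simp only [mem_subgroupOf, Subgroup.coe_mul, Subgroup.coe_inv, inv_mem_iff] at this
        by_contra hvB
        exact hav (this.2 (iff_of_false haB hvB))
      obtain ⟨n, hn, hnC, e2⟩ := hfu
      have h2 : n * a * n⁻¹ ∈ B := by
        have := mul_mem hvB (inv_mem e2)
        rwa [mul_inv_rev, inv_inv, mul_inv_cancel_left] at this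
      refine haB ?_
      have e' := mem_centralizer_iff.1 hnC _ h2
      have e3 : n * a * n⁻¹ = a := by
        calc n * a * n⁻¹ = n⁻¹ * (n * (n * a * n⁻¹)) := by group
          _ = n⁻¹ * (n * a * n⁻¹ * n) := by rw [e']
          _ = a := by group
      rwa [e3] at h2
    · have h4 : 4 * Nat.card B ≤ Nat.card A := by
        rw [hi, hj, show (4 : ℕ) = 2 ^ 2 by norm_num, ← pow_add]
        exact Nat.pow_le_pow_right (by norm_num) (by omega)
      obtain ⟨u, hu, v, hv, huB, hvB, hne⟩ := tame B hB h4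
      rcases (show i = j + 2 ∨ j + 3 ≤ i by omega) with e2 | e2
      · obtain ⟨x, hx, hxB, hxi⟩ := h.exists_isolated_of_index_four hB
          (by rw [hi, hj, e2, pow_add]; ring) hu huB hv hvB hne
        exact h.good_of_isolated hB hx hxB (hIH x hx hxB) hxi
      · refine h.good_of_rank hB ?_ hIH hu huB hv hvB hne
        rw [hi, hj, show (8 : ℕ) = 2 ^ 3 by norm_num, ← pow_add]
        exact Nat.pow_le_pow_right (by norm_num) (by omega)

/-- The subgroup is normal when the core is trivial. -/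
theorem Closed.normal (hO : Cfsg.oddCore G = ⊥)
    (tame : ∀ B ≤ A, 4 * Nat.card B ≤ Nat.card A →
      ∃ u ∈ A, ∃ v ∈ A, u ∉ B ∧ v ∉ B ∧ ¬ Fused A B u v) : A.Normal := by
  refine normalizer_eq_top_iff.1 (eq_top_iff.2 fun y _ => ?_)
  have htop : centralizer ((⊥ : Subgroup G) : Set G) = ⊤ :=
    eq_top_iff.2 fun x _ => mem_centralizer_iff.2 fun b hb => by
      rw [SetLike.mem_coe, mem_bot] at hb; rw [hb, one_mul, mul_one]
  obtain ⟨r, hr, n, hn, rfl⟩ := h.good bot_le tame y (htop.symm ▸ mem_top y)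
  obtain ⟨r', hr', rfl⟩ := hr
  suffices (r' : G) = 1 by
    show (r' : G) * n ∈ _
    rw [this, one_mul]; exact hn
  let K := centralizer ((⊥ : Subgroup G) : Set G)
  have hodd : Odd (Nat.card (coreIn K)) := odd_coreIn K
  haveI : (coreIn K).Normal := ⟨fun x hx g => conj_coreIn (show g ∈ K from htop.ge (mem_top g)) hx⟩
  have hle : coreIn K ≤ Cfsg.oddCore G := CfsgLib.PLocal.le_pPrimeCore (Nat.coprime_two_right.2 hodd)
  rw [hO] at hle
  exact mem_bot.1 (hle ⟨r', hr', rfl⟩)

end CfsgLib.TameClosed
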