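import Cfsg.Agent.TameClosed.Basic
import Cfsg.Agent.S0217
import Cfsg.Agent.S0205
import Cfsg.Agent.S0215

/-!
# The inductive steps of the tame strongly closed theorem

`Good A B`: the centralizer of `B` is the product of its odd core and its part normalizing `A`.
-/

set_option autoImplicit false
set_option linter.style.haveILetI false
set_option linter.unusedSectionVars false

namespace CfsgLib.TameClosed

open Subgroup
open scoped Pointwise

variable {G : Type*} [Group G] [Finite G]

/-- `C(B) = O(C(B)) (N(A) ∩ C(B))`. -/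
def Good (A B : Subgroup G) : Prop :=
  ∀ y ∈ centralizer (B : Set G), ∃ r ∈ coreIn (centralizer (B : Set G)),
    ∃ n ∈ normalizer (A : Set G), y = r * n

/-- `u` and `v` are fused modulo `B` by `N(A) ∩ C(B)`. -/
def Fused (A B : Subgroup G) (u v : G) : Prop :=
  ∃ n ∈ normalizer (A : Set G), n ∈ centralizer (B : Set G) ∧ (n * u * n⁻¹)⁻¹ * v ∈ B

variable {S : Sylow 2 G} {A : Subgroup G} (h : Closed S A)

theorem mem_centralizer_sup {B : Subgroup G} {a y : G}
    (hy : y ∈ centralizer ((B ⊔ zpowers a : Subgroup G) : Set G)) :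
    y ∈ centralizer (B : Set G) ∧ y * a = a * y :=
  ⟨centralizer_le (le_sup_left : B ≤ B ⊔ zpowers a) hy,
    (mem_centralizer_iff.1 hy a (mem_sup_right (mem_zpowers a))).symm⟩

theorem mem_centralizer_sup_of {B : Subgroup G} {a y : G} (hy : y ∈ centralizer (B : Set G))
    (ha : y * a = a * y) : y ∈ centralizer ((B ⊔ zpowers a : Subgroup G) : Set G) := by
  have hle : B ⊔ zpowers a ≤ centralizer ({y} : Set G) := sup_le
    (fun b hb => mem_centralizer_singleton_iff.2 (mem_centralizer_iff.1 hy b hb))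
    (zpowers_le.2 (mem_centralizer_singleton_iff.2 ha.symm))
  exact mem_centralizer_iff.2 fun b hb => mem_centralizer_singleton_iff.1 (hle hb)

include h

theorem Closed.centBa {B : Subgroup G} (hB : B ≤ A) {a : G} (ha : a ∈ A) :
    A ≤ centralizer ((B ⊔ zpowers a : Subgroup G) : Set G) :=
  h.centB (sup_le hB (zpowers_le.2 ha))

/-- The centralizer of `A`. -/
theorem Closed.decomp_self : ∀ y ∈ centralizer (A : Set G),
    ∃ r ∈ coreIn (centralizer (A : Set G)), ∃ a ∈ A, y = r * a := by
  classical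
  haveI : Fact (Nat.Prime 2) := ⟨Nat.prime_two⟩
  set C := centralizer (A : Set G) with hC
  have hAC : A ≤ C := h.centB le_rfl
  obtain ⟨R, hR⟩ := h.exists_sylow hAC
  have hRA : (R : Subgroup C) ≤ A.subgroupOf C := by
    intro x hx
    obtain ⟨k, hk⟩ := h.exists_into (R.isPGroup'.map C.subtype)
    have hkN : k ∈ normalizer (A : Set G) := mem_normalizer_of_maps fun a ha =>
      h.closed a ha k (hk a ⟨⟨a, hAC ha⟩, hR (mem_subgroupOf.2 ha), rfl⟩)
    have := h.self _ (hk _ ⟨x, hx, rfl⟩) fun a ha => by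
      have hc := mem_centralizer_iff.1 x.2 (k⁻¹ * a * k) ((mem_normalizer_iff''.1 hkN a).1 ha)
      calc k * (C.subtype x) * k⁻¹ * a = k * ((x : G) * (k⁻¹ * a * k)) * k⁻¹ := by
            show k * (x : G) * k⁻¹ * a = _
            group
        _ = k * (k⁻¹ * a * k * (x : G)) * k⁻¹ := by rw [hc]
        _ = a * (k * (C.subtype x) * k⁻¹) := by
            show _ = a * (k * (x : G) * k⁻¹)
            group
    exact mem_subgroupOf.2 ((mem_normalizer_iff.1 hkN (x : G)).2 this)
  have hRC : normalizer ((R : Subgroup C) : Set C) ≤ centralizer ((R : Subgroup C) : Set C) := fun y _ =>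
    mem_centralizer_iff.2 fun u hu => Subtype.ext
      (mem_centralizer_iff.1 y.2 (u : G) (mem_subgroupOf.1 (hRA hu)))
  have hcompl := MonoidHom.ker_transferSylow_isComplement' R hRC
  set K0 := (MonoidHom.transferSylow R hRC).ker with hK0
  have hK0odd : Odd (Nat.card K0) := by
    rw [← Nat.not_even_iff_odd, even_iff_two_dvd]
    exact MonoidHom.not_dvd_card_ker_transferSylow R hRC
  have hle : K0 ≤ Cfsg.oddCore C :=
    CfsgLib.PLocal.le_pPrimeCore (Nat.coprime_two_right.2 hK0odd)
  intro y hy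
  obtain ⟨⟨k, a⟩, hka⟩ := hcompl.2 (⟨y, hy⟩ : C)
  exact ⟨((k : C) : G), ⟨k, hle k.2, rfl⟩, ((a : C) : G),
    mem_subgroupOf.1 (hRA a.2), (congrArg Subtype.val hka).symm⟩

theorem Closed.good_self : Good A A := fun y hy => by
  obtain ⟨r, hr, a, ha, e⟩ := h.decomp_self y hy
  exact ⟨r, hr, a, Subgroup.le_normalizer ha, e⟩

/-- Odd elements of the centralizer of `A` lie in the core of every intermediate centralizer. -/
theorem Closed.core_self_le {B : Subgroup G} (hB : B ≤ A) (hgood : Good A B) :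
    coreIn (centralizer (A : Set G)) ≤ coreIn (centralizer (B : Set G)) := by
  set K := centralizer (B : Set G)
  set O := coreIn K
  set OA := coreIn (centralizer (A : Set G))
  have hOA : OA ≤ K := (coreIn_le _).trans (centralizer_le hB)
  have hn : OA ≤ normalizer (O : Set G) := fun y hy => mem_normalizer_iff.2 fun z =>
    ⟨fun hz => conj_coreIn (hOA hy) hz, fun hz => by
      have := conj_coreIn (inv_mem (hOA hy)) hz
      rwa [show y⁻¹ * (y * z * y⁻¹) * y⁻¹⁻¹ = z by group] at this⟩
  refine le_sup_right.trans (le_coreIn (N := O ⊔ OA) (sup_le (coreIn_le K) hOA)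
    (odd_sup (odd_coreIn K) (odd_coreIn _) hn) ?_)
  intro y hy
  obtain ⟨r, hr, n, hn', rfl⟩ := hgood y hy
  have hnK : n ∈ K := by
    have := mul_mem (inv_mem (coreIn_le K hr)) hy
    rwa [inv_mul_cancel_left] at this
  have hnC : n ∈ normalizer ((centralizer (A : Set G) : Subgroup G) : Set G) := by
    refine mem_normalizer_iff.2 fun c => ?_
    simp only [mem_centralizer_iff, SetLike.mem_coe]
    constructor
    · intro hc a ha
      have := hc _ ((mem_normalizer_iff''.1 hn' a).1 ha)
      calc a * (n * c * n⁻¹) = n * (n⁻¹ * a * n * c) * n⁻¹ := by group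
        _ = n * (c * (n⁻¹ * a * n)) * n⁻¹ := by rw [this]
        _ = _ := by group
    · intro hc a ha
      have := hc _ (conj_mem hn' ha)
      calc a * c = n⁻¹ * (n * a * n⁻¹ * (n * c * n⁻¹)) * n := by group
        _ = n⁻¹ * (n * c * n⁻¹ * (n * a * n⁻¹)) * n := by rw [this]
        _ = c * a := by group
  intro z hz
  have hzn : n * z * n⁻¹ ∈ O ⊔ OA := by
    have hle : (O ⊔ OA).map (MulAut.conj n).toMonoidHom ≤ O ⊔ OA := by
      rw [Subgroup.map_sup]
      exact sup_le (fun _ ⟨w, hw, e⟩ => e ▸ mem_sup_left (conj_coreIn hnK hw))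
        (fun _ ⟨w, hw, e⟩ => e ▸ mem_sup_right (map_coreIn hnC hw))
    exact hle ⟨z, hz, rfl⟩
  rw [show r * n * z * (r * n)⁻¹ = r * (n * z * n⁻¹) * r⁻¹ by group]
  exact mul_mem (mul_mem (mem_sup_left hr) hzn) (inv_mem (mem_sup_left hr))

/-- Balance for the signalizers. -/
theorem Closed.balance {B : Subgroup G} (hB : B ≤ A) {a b : G} (ha : a ∈ A) (hb : b ∈ A)
    (hgood : Good A (B ⊔ zpowers b)) :
    coreIn (centralizer ((B ⊔ zpowers a : Subgroup G) : Set G)) ⊓ centralizer ({b} : Set G) ≤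
      coreIn (centralizer ((B ⊔ zpowers b : Subgroup G) : Set G)) := by
  set Ka := centralizer ((B ⊔ zpowers a : Subgroup G) : Set G)
  set K := centralizer ((B ⊔ zpowers b : Subgroup G) : Set G)
  set R := coreIn Ka ⊓ centralizer ({b} : Set G)
  set O := coreIn K
  have hRK : R ≤ K := fun r hr => mem_centralizer_sup_of
    (mem_centralizer_sup (coreIn_le Ka (mem_inf.1 hr).1)).1
    (mem_centralizer_singleton_iff.1 (mem_inf.1 hr).2)
  have hRn : R ≤ normalizer (O : Set G) := fun y hy => mem_normalizer_iff.2 fun z =>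
    ⟨fun hz => conj_coreIn (hRK hy) hz, fun hz => by
      have := conj_coreIn (inv_mem (hRK hy)) hz
      rwa [show y⁻¹ * (y * z * y⁻¹) * y⁻¹⁻¹ = z by group] at this⟩
  have hodd : Odd (Nat.card (O ⊔ R : Subgroup G)) :=
    odd_sup (odd_coreIn K) ((odd_coreIn Ka).of_dvd_nat (card_dvd_of_le inf_le_left)) hRn
  intro r hr
  obtain ⟨o, ho, n, hn, e⟩ := hgood r (hRK hr)
  have hnO : n ∈ O ⊔ R := by
    rw [show n = o⁻¹ * r by rw [e, inv_mul_cancel_left]]
    exact mul_mem (mem_sup_left (inv_mem ho)) (mem_sup_right hr)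
  have hnA : n ∈ centralizer (A : Set G) := by
    refine mem_centralizer_iff.2 fun v hv => ?_
    have hvb : v * b = b * v := h.comm v hv b hb
    have hva : v ∈ Ka := h.centBa hB ha hv
    have hvK : v ∈ K := h.centBa hB hb hv
    have hvR : v * r⁻¹ * v⁻¹ ∈ R := mem_inf.2 ⟨conj_coreIn hva (inv_mem (mem_inf.1 hr).1),
      mem_centralizer_singleton_iff.2 (Commute.mul_left (Commute.mul_left hvb
        (Commute.inv_left (mem_centralizer_singleton_iff.1 (mem_inf.1 hr).2))) (Commute.inv_left hvb))⟩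
    have hc : n * v * n⁻¹ * v⁻¹ ∈ O ⊔ R := by
      rw [show n * v * n⁻¹ * v⁻¹ = o⁻¹ * (r * (v * r⁻¹ * v⁻¹)) * (v * o * v⁻¹) by rw [e]; group]
      exact mul_mem (mul_mem (mem_sup_left (inv_mem ho)) (mem_sup_right (mul_mem hr hvR)))
        (mem_sup_left (conj_coreIn hvK ho))
    have := eq_one_of_sq_of_odd hodd hc (h.sq _ (mul_mem (conj_mem hn hv) (inv_mem hv)))
    exact ((mul_inv_eq_iff_eq_mul.1 (mul_inv_eq_one.1 this))).symm
  obtain ⟨r', hr', a', ha', e'⟩ := h.decomp_self n hnA
  have hr'O : r' ∈ O := h.core_self_le (sup_le hB (zpowers_le.2 hb)) hgood hr'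
  have ha'O : a' ∈ O ⊔ R := by
    rw [show a' = r'⁻¹ * n by rw [e', inv_mul_cancel_left]]
    exact mul_mem (mem_sup_left (inv_mem hr'O)) hnO
  rw [e, e', eq_one_of_sq_of_odd hodd ha'O (h.sq a' ha'), mul_one]
  exact mul_mem ho hr'O

end CfsgLib.TameClosed
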